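import Mathlib
import Groth.Agent.Lib.Helper3.DvrCpl1

/-!
# A one-dimensional Noetherian local ring integrally closed in an overring in which a parameter
becomes invertible is a discrete valuation ring (helper2)
-/

set_option autoImplicit false
set_option backward.isDefEq.respectTransparency.types false
set_option synthInstance.maxHeartbeats 400000
set_option maxHeartbeats 4000000
set_option linter.style.haveILetI false
set_option linter.unusedSectionVars false
set_option linter.unusedVariables false

universe u
open IsLocalRing Polynomial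

namespace Groth.Agent.Helper2.NormDVR

section LemmaB
variable {R T : Type u} [CommRing R] [CommRing T] [Algebra R T]

/-- Cayley–Hamilton: an element stabilising a finitely generated submodule containing a unit is
integral. -/
theorem isIntegral_of_mul_mem (N : Submodule R T) (hN : N.FG) (u : T) (hu : u ∈ N)
    (huu : IsUnit u) (z : T) (hz : ∀ n ∈ N, z * n ∈ N) : IsIntegral R z := by
  haveI : Module.Finite R N := Module.Finite.iff_fg.mpr hN
  let φ : N →ₗ[R] N :=
    { toFun := fun n => ⟨z * n.1, hz n.1 n.2⟩
      map_add' := fun a b => Subtype.ext (by simp [mul_add])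
      map_smul' := fun r a => Subtype.ext (by simp) }
  obtain ⟨P, hPm, hP⟩ := LinearMap.exists_monic_and_aeval_eq_zero R φ
  have hpow : ∀ (k : ℕ) (n : N), (((φ ^ k) n : N) : T) = z ^ k * n.1 := by
    intro k
    induction k with
    | zero => intro n; simp
    | succ k ih =>
      intro n
      rw [pow_succ, Module.End.mul_apply, ih]
      show z ^ k * (z * n.1) = z ^ (k + 1) * n.1
      ring
  have key : ∀ (Q : R[X]) (n : N), (((aeval φ Q) n : N) : T) = (aeval z Q) * n.1 := by
    intro Q
    induction Q using Polynomial.induction_on' with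
    | add p q hp hq =>
      intro n
      rw [map_add, map_add, LinearMap.add_apply, Submodule.coe_add, hp, hq, add_mul]
    | monomial k a =>
      intro n
      rw [aeval_monomial, aeval_monomial, Module.End.mul_apply, Module.algebraMap_end_apply,
        Submodule.coe_smul, hpow, Algebra.smul_def, mul_assoc]
  have h0 := key P ⟨u, hu⟩
  rw [hP] at h0
  simp only [LinearMap.zero_apply, ZeroMemClass.coe_zero] at h0
  have h1 : aeval z P = 0 := by
    have := huu.mul_left_eq_zero.mp h0.symm
    exact this
  exact ⟨P, hPm, by rwa [← aeval_def]⟩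

variable [IsLocalRing R] [IsNoetherianRing R]

/-- In a one-dimensional local ring a prime containing a non-zero-divisor is the maximal ideal. -/
theorem eq_maximalIdeal_of_mem (hdim : ringKrullDim R = 1) (g : R) (hg : g ∈ nonZeroDivisors R)
    (P : Ideal R) [P.IsPrime] (hgP : g ∈ P) : P = maximalIdeal R := by
  by_contra hne
  have hlt : P < maximalIdeal R :=
    lt_of_le_of_ne (IsLocalRing.le_maximalIdeal Ideal.IsPrime.ne_top') hne
  obtain ⟨q, hq, hqP⟩ := Ideal.exists_minimalPrimes_le (bot_le : (⊥ : Ideal R) ≤ P)
  haveI : q.IsPrime := hq.1.1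
  have hqne : q ≠ P := by
    rintro rfl
    exact Set.disjoint_left.mp (Ideal.disjoint_nonZeroDivisors_of_mem_minimalPrimes hq) hgP hg
  have hqlt : q < P := lt_of_le_of_ne hqP hqne
  have h1 : q.height < P.height := Ideal.height_strict_mono_of_isPrime hqlt
  have h2 : P.height < (maximalIdeal R).height := Ideal.height_strict_mono_of_isPrime hlt
  have h3 : ((maximalIdeal R).height : WithBot ℕ∞) ≤ 1 := by
    rw [← hdim]
    exact Ideal.height_le_ringKrullDim_of_isPrime
  have h4 : (maximalIdeal R).height ≤ 1 := by exact_mod_cast h3
  have h5 : (1 : ℕ∞) ≤ P.height := Order.one_le_iff_pos.mpr (lt_of_le_of_lt bot_le h1)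
  have h6 : P.height < 1 := lt_of_lt_of_le h2 h4
  exact absurd h5 (not_le.mpr h6)

/-- **Lemma B.** -/
theorem isDVR_of_integrallyClosed_in (hdim : ringKrullDim R = 1)
    (hinj : Function.Injective (algebraMap R T))
    (hic : ∀ z : T, IsIntegral R z → z ∈ (algebraMap R T).range) (g : R)
    (hgm : g ∈ maximalIdeal R) (hu : IsUnit (algebraMap R T g)) :
    ∃ _ : IsDomain R, IsDiscreteValuationRing R := by
  haveI : Nontrivial T := hinj.nontrivial
  have hgnzd : g ∈ nonZeroDivisors R := by
    rw [mem_nonZeroDivisors_iff_right]
    intro x hx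
    apply hinj
    rw [map_zero]
    have : algebraMap R T x * algebraMap R T g = 0 := by rw [← map_mul, hx, map_zero]
    exact hu.mul_left_eq_zero.mp this
  -- radical of (g) is the maximal ideal
  have hrad : maximalIdeal R ≤ (Ideal.span {g}).radical := by
    rw [Ideal.radical_eq_sInf]
    refine le_sInf ?_
    rintro P ⟨hgP, hP⟩
    haveI := hP
    rw [eq_maximalIdeal_of_mem hdim g hgnzd P (hgP (Ideal.mem_span_singleton_self g))]
  obtain ⟨k, hk⟩ := Ideal.exists_pow_le_of_le_radical_of_fg hrad
    ((isNoetherianRing_iff_ideal_fg R).mp inferInstance _)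
  have hex : ∃ k, maximalIdeal R ^ k ≤ Ideal.span {g} := ⟨k, hk⟩
  classical
  let k₀ := Nat.find hex
  have hk₀ : maximalIdeal R ^ k₀ ≤ Ideal.span {g} := Nat.find_spec hex
  have hgspan : Ideal.span {g} ≤ maximalIdeal R := by
    rw [Ideal.span_le]; exact Set.singleton_subset_iff.2 hgm
  have hk₀ne : k₀ ≠ 0 := by
    intro h0
    rw [h0, pow_zero, Ideal.one_eq_top] at hk₀
    have : (1 : R) ∈ maximalIdeal R := hgspan (hk₀ trivial)
    exact (Ideal.ne_top_iff_one _).mp (maximalIdeal.isMaximal R).ne_top this
  obtain ⟨k₁, hk₁⟩ : ∃ k₁, k₀ = k₁ + 1 := ⟨k₀ - 1, by omega⟩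
  have hnot : ¬ maximalIdeal R ^ k₁ ≤ Ideal.span {g} := by
    intro h
    have := Nat.find_min' hex h
    omega
  obtain ⟨y, hyk, hyg⟩ := SetLike.not_le_iff_exists.mp hnot
  have hmy : ∀ x ∈ maximalIdeal R, ∃ r : R, x * y = g * r := by
    intro x hx
    have : x * y ∈ maximalIdeal R ^ k₀ := by
      rw [hk₁, pow_succ, mul_comm x y]
      exact Ideal.mul_mem_mul hyk hx
    have := hk₀ this
    rw [Ideal.mem_span_singleton'] at this
    obtain ⟨r, hr⟩ := this
    exact ⟨r, by rw [← hr, mul_comm]⟩
  -- the element z = y / g
  obtain ⟨gi, hgi⟩ := hu.exists_right_inv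
  let z : T := algebraMap R T y * gi
  have hzx : ∀ x r : R, x * y = g * r → z * algebraMap R T x = algebraMap R T r := by
    intro x r hxr
    have h1 : algebraMap R T x * algebraMap R T y = algebraMap R T g * algebraMap R T r := by
      rw [← map_mul, ← map_mul, hxr]
    calc z * algebraMap R T x = (algebraMap R T x * algebraMap R T y) * gi := by
          simp only [z]; ring
      _ = algebraMap R T r * (algebraMap R T g * gi) := by rw [h1]; ring
      _ = algebraMap R T r := by rw [hgi, mul_one]
  by_cases hcase : ∀ x ∈ maximalIdeal R, ∀ r : R, x * y = g * r → r ∈ maximalIdeal R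
  · -- z is integral, contradiction
    exfalso
    let N : Submodule R T := Submodule.map (Algebra.linearMap R T) (maximalIdeal R)
    have hNfg : N.FG := Submodule.FG.map _ ((isNoetherianRing_iff_ideal_fg R).mp inferInstance _)
    have hzN : ∀ n ∈ N, z * n ∈ N := by
      rintro _ ⟨x, hx, rfl⟩
      obtain ⟨r, hr⟩ := hmy x hx
      refine ⟨r, hcase x hx r hr, ?_⟩
      rw [Algebra.linearMap_apply, Algebra.linearMap_apply, hzx x r hr]
    have hint : IsIntegral R z :=
      isIntegral_of_mul_mem N hNfg (algebraMap R T g) ⟨g, hgm, rfl⟩ hu z hzN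
    obtain ⟨r₀, hr₀⟩ := hic z hint
    apply hyg
    rw [Ideal.mem_span_singleton']
    refine ⟨r₀, ?_⟩
    apply hinj
    have hr₀' : algebraMap R T r₀ = z := hr₀
    rw [map_mul, hr₀']
    simp only [z]
    calc algebraMap R T y * gi * algebraMap R T g = algebraMap R T y * (algebraMap R T g * gi) := by
          ring
      _ = algebraMap R T y := by rw [hgi, mul_one]
  · push Not at hcase
    obtain ⟨t, htm, r, htr, hrm⟩ := hcase
    have hru : IsUnit r := by
      by_contra h
      exact hrm ((mem_maximalIdeal r).2 h)
    obtain ⟨ri, hri⟩ := hru.exists_right_inv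
    let t' : R := t * ri
    have ht'm : t' ∈ maximalIdeal R := Ideal.mul_mem_right _ _ htm
    have hzt' : z * algebraMap R T t' = 1 := by
      simp only [t']
      rw [map_mul, ← mul_assoc, hzx t r htr, ← map_mul, hri, map_one]
    have hspan : maximalIdeal R = Ideal.span {t'} := by
      apply le_antisymm
      · intro x hx
        obtain ⟨rx, hrx⟩ := hmy x hx
        rw [Ideal.mem_span_singleton']
        refine ⟨rx, ?_⟩
        apply hinj
        rw [map_mul, ← hzx x rx hrx]
        calc z * algebraMap R T x * algebraMap R T t'
            = algebraMap R T x * (z * algebraMap R T t') := by ring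
          _ = algebraMap R T x := by rw [hzt', mul_one]
      · rw [Ideal.span_le]; exact Set.singleton_subset_iff.2 ht'm
    have hnil : ¬ IsNilpotent t' := by
      rintro ⟨j, hj⟩
      have h1 : (z * algebraMap R T t') ^ j = 1 := by rw [hzt', one_pow]
      rw [mul_pow, ← map_pow, hj, map_zero, mul_zero] at h1
      exact zero_ne_one h1
    exact Groth.Agent.Helper3.DvrCpl.isDVR_of_principal t' hspan hnil

end LemmaB

section LemmaB'
variable {A B R : Type u} [CommRing A] [CommRing B] [CommRing R] [Algebra A B] [Algebra A R]
  (p : Ideal A) [p.IsPrime] [IsLocalization.AtPrime R p] [IsNoetherianRing R]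

/-- **Lemma B'.** The localization at a height-one prime `p` of a ring `A` integrally closed in an
overring `B`, in which a parameter `g ∈ p` becomes invertible after inverting some `h ∉ p`, is a
discrete valuation ring. -/
theorem isDVR_of_localization (hdim : ringKrullDim R = 1)
    (hinj : Function.Injective (algebraMap A B))
    (hic : ∀ b : B, IsIntegral A b → b ∈ (algebraMap A B).range)
    (g h : A) (hg : g ∈ p) (hh : h ∉ p) (b : B) (n : ℕ)
    (hb : algebraMap A B g * b = algebraMap A B h ^ n) :
    ∃ _ : IsDomain R, IsDiscreteValuationRing R := by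
  haveI : IsLocalRing R := IsLocalization.AtPrime.isLocalRing R p
  let M := p.primeCompl
  let T := Localization (Algebra.algebraMapSubmonoid B M)
  letI algRT : Algebra R T := localizationAlgebra M B
  haveI : IsScalarTower A R T := isScalarTower_localizationAlgebra M B
  have hinjT : Function.Injective (algebraMap R T) := localizationAlgebra_injective R T hinj
  have hunit : ∀ m : M, IsUnit (algebraMap A T m) := fun m =>
    IsLocalization.map_units_map_submonoid B T m
  refine isDVR_of_integrallyClosed_in (T := T) hdim hinjT ?_ (algebraMap A R g) ?_ ?_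
  · intro z hz
    obtain ⟨m, hm⟩ := IsIntegral.exists_multiple_integral_of_isLocalization M z hz
    obtain ⟨⟨b', s'⟩, hbs⟩ := IsLocalization.surj (Algebra.algebraMapSubmonoid B M) (m • z)
    obtain ⟨s, hsM, hs⟩ := s'.2
    have hs' : algebraMap B T s'.1 = algebraMap A T s := by
      rw [← hs, ← IsScalarTower.algebraMap_apply]
    have hbs' : (m • z) * algebraMap A T s = algebraMap B T b' := by
      rw [← hs']; exact hbs
    have hint : IsIntegral A (algebraMap B T b') := by
      rw [← hbs']
      exact hm.mul isIntegral_algebraMap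
    obtain ⟨m', hm'M, hm'⟩ := IsLocalization.exists_isIntegral_smul_of_isIntegral_map M hint
    obtain ⟨a, ha⟩ := hic _ hm'
    have ha' : algebraMap A B a = m' • b' := ha
    let d : M := ⟨m' * s * m, M.mul_mem (M.mul_mem hm'M hsM) m.2⟩
    refine ⟨IsLocalization.mk' R a d, ?_⟩
    have h1 : algebraMap R T (IsLocalization.mk' R a d) * algebraMap A T d = algebraMap A T a := by
      rw [IsScalarTower.algebraMap_apply A R T, ← map_mul, IsLocalization.mk'_spec,
        ← IsScalarTower.algebraMap_apply]
    have h2 : z * algebraMap A T d = algebraMap A T a := by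
      have e1 : algebraMap A T a = algebraMap A T m' * algebraMap B T b' := by
        rw [IsScalarTower.algebraMap_apply A B T a, ha', Algebra.smul_def, map_mul,
          ← IsScalarTower.algebraMap_apply]
      have e2 : m • z = algebraMap A T (m : A) * z := by
        rw [Submonoid.smul_def, Algebra.smul_def]
      have e3 : algebraMap A T d = algebraMap A T m' * algebraMap A T s * algebraMap A T (m : A) := by
        show algebraMap A T (m' * s * m) = _
        rw [map_mul, map_mul]
      rw [e1, ← hbs', e2, e3]
      ring
    exact (hunit d).mul_left_injective (h1.trans h2.symm)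
  · exact (IsLocalization.AtPrime.to_map_mem_maximal_iff R p g).mpr hg
  · rw [← IsScalarTower.algebraMap_apply A R T]
    have h1 : algebraMap A T g * algebraMap B T b = algebraMap A T h ^ n := by
      rw [IsScalarTower.algebraMap_apply A B T g, ← map_mul, hb, map_pow,
        ← IsScalarTower.algebraMap_apply]
    have h2 : IsUnit (algebraMap A T g * algebraMap B T b) := by
      rw [h1]; exact (hunit ⟨h, hh⟩).pow n
    exact isUnit_of_mul_isUnit_left h2

end LemmaB'

end Groth.Agent.Helper2.NormDVR
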