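import Mathlib
import Groth.Prelude.Def_Found
import Groth.Agent.Lib.Helper2.NormDVR.Alg
import Groth.Agent.Lib.Helper2.NormY.Main
import Groth.Agent.Lib.Helper4.Nagata3
import Groth.Agent.Lib.Helper4.IntersectProp1
import Groth.Agent.Lib.Helper4.FlatDesc
import Groth.Agent.Lib.Helper4.NormalizationField3

/-!
# Discrete valuation rings in the relative normalization (S9676) (helper2)
-/

set_option autoImplicit false
set_option backward.isDefEq.respectTransparency.types false
set_option synthInstance.maxHeartbeats 400000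
set_option maxHeartbeats 4000000
set_option linter.style.haveILetI false
set_option linter.unusedSectionVars false
set_option linter.unusedVariables false

universe u
open CategoryTheory CategoryTheory.Limits AlgebraicGeometry TopologicalSpace
open Groth.Agent.Lib.Helper4.NormalizationField3 Groth.Agent.Lib.Helper4.IntersectProp1

namespace Groth.Agent.Helper2.NormDVR

/-- **Lemma C.** A height one prime of a Noetherian ring contains an element lying in no strictly
smaller prime. -/
theorem exists_mem_notMem_of_height_one {A : Type u} [CommRing A] [IsNoetherianRing A]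
    (P : Ideal A) [P.IsPrime] (hP : P.height = 1) :
    ∃ g ∈ P, ∀ q : Ideal A, q.IsPrime → q ≤ P → q ≠ P → g ∉ q := by
  classical
  have hfin : (minimalPrimes A).Finite := minimalPrimes.finite_of_isNoetherianRing A
  have hex : ∃ g ∈ P, ∀ q ∈ minimalPrimes A, g ∉ q := by
    by_contra hcon
    push Not at hcon
    have hsub : ((P : Set A) ⊆ ⋃ i ∈ (↑hfin.toFinset : Set (Ideal A)), (fun q => q) i) := by
      intro g hg
      obtain ⟨q, hq, hgq⟩ := hcon g hg
      simp only [Set.mem_iUnion]
      exact ⟨q, by simpa using hq, hgq⟩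
    obtain ⟨q, hq, hPq⟩ := (Ideal.subset_union_prime (f := fun q : Ideal A => q) ⊥ ⊥
      (fun i hi _ _ => by
        have : i ∈ minimalPrimes A := by simpa using hi
        exact this.1.1)).mp hsub
    have hq' : q ∈ minimalPrimes A := by simpa using hq
    have hqP : q ≤ P := hq'.2 ⟨inferInstance, bot_le⟩ hPq
    have hPq' : P = q := le_antisymm hPq hqP
    have : P.height = 0 := by
      rw [Ideal.height_eq_zero_iff, hPq']; exact hq'
    rw [hP] at this
    exact one_ne_zero this
  obtain ⟨g, hgP, hg⟩ := hex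
  refine ⟨g, hgP, fun q hq hqP hne => ?_⟩
  haveI := hq
  have hlt : q < P := lt_of_le_of_ne hqP hne
  have h1 : q.height < P.height := Ideal.height_strict_mono_of_isPrime hlt
  rw [hP] at h1
  have h0 : q.height = 0 := by
    have := Order.lt_one_iff_nonpos.mp h1
    exact le_antisymm this bot_le
  exact hg q (Ideal.height_eq_zero_iff.mp h0)

section Geo
variable {X Y : Scheme.{u}} (f : Y ⟶ X) [LocallyOfFiniteType f] [QuasiCompact f]
  [QuasiSeparated f] [IsReduced Y]

open Groth.Agent.Helper2.NormY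

/-- **S9676.** -/
theorem S9676_main (hX : ∀ U : X.affineOpens, CAlg.IsNagata Γ(X, U))
    (x' : ↥f.normalization) (hdim : ringKrullDim (f.normalization.presheaf.stalk x') = 1)
    (hx' : x' ∉ Set.range f.toNormalization.base) :
    ∃ _ : IsDomain (f.normalization.presheaf.stalk x'),
      IsDiscreteValuationRing (f.normalization.presheaf.stalk x') := by
  haveI : IsLocallyNoetherian X := ⟨fun U => (hX U).1⟩
  haveI hfin : IsFinite f.fromNormalization := Groth.Agent.Lib.Helper4.Nagata3.S9675_main f hX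
  haveI : IsLocallyNoetherian f.normalization :=
    LocallyOfFiniteType.isLocallyNoetherian f.fromNormalization
  obtain ⟨_, ⟨U, hU, rfl⟩, hxU, -⟩ := X.isBasis_affineOpens.exists_subset_of_mem_open
    (Set.mem_univ (f.fromNormalization x')) isOpen_univ
  have hW : IsAffineOpen (f.fromNormalization ⁻¹ᵁ U) := hU.preimage f.fromNormalization
  have hx'W : x' ∈ f.fromNormalization ⁻¹ᵁ U := hxU
  haveI : IsNoetherianRing Γ(f.normalization, f.fromNormalization ⁻¹ᵁ U) :=
    IsLocallyNoetherian.component_noetherian ⟨_, hW⟩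
  -- the prime of `x'`
  have hht : (hW.primeIdealOf ⟨x', hx'W⟩).asIdeal.height = 1 := by
    have := dim_stalk_eq hW x' hx'W
    rw [hdim] at this
    exact_mod_cast this.symm
  obtain ⟨g, hgP, hg⟩ := exists_mem_notMem_of_height_one _ hht
  -- the closed set where `g` vanishes
  have hZ : IsClosed (f.toNormalization.base ⁻¹'
      ((f.normalization.basicOpen g : Set f.normalization)ᶜ)) :=
    (f.normalization.basicOpen g).isOpen.isClosed_compl.preimage f.toNormalization.continuous
  have hnotcl : x' ∉ closure (f.toNormalization.base ''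
      (f.toNormalization.base ⁻¹' ((f.normalization.basicOpen g : Set f.normalization)ᶜ))) := by
    intro hmem
    obtain ⟨z, hzZ, hzsp⟩ :=
      Groth.Agent.Lib.Helper4.FlatDesc.exists_specializes_of_mem_closure_image
        f.toNormalization _ hZ x' hmem
    have hyW : f.toNormalization z ∈ f.fromNormalization ⁻¹ᵁ U :=
      hzsp.mem_open (f.fromNormalization ⁻¹ᵁ U).isOpen hx'W
    have hle := primeIdealOf_le_of_specializes hW hyW hx'W hzsp
    have hne : (hW.primeIdealOf ⟨f.toNormalization z, hyW⟩).asIdeal ≠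
        (hW.primeIdealOf ⟨x', hx'W⟩).asIdeal := by
      intro heq
      have h1 : hW.primeIdealOf ⟨f.toNormalization z, hyW⟩ = hW.primeIdealOf ⟨x', hx'W⟩ :=
        PrimeSpectrum.ext heq
      have h2 := hW.fromSpec_primeIdealOf ⟨f.toNormalization z, hyW⟩
      rw [h1, hW.fromSpec_primeIdealOf] at h2
      exact hx' ⟨z, h2.symm⟩
    have hgq : g ∈ (hW.primeIdealOf ⟨f.toNormalization z, hyW⟩).asIdeal := by
      by_contra hn
      exact hzZ ((mem_basicOpen_iff hW _ hyW g).2 hn)
    exact hg _ inferInstance hle hne hgq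
  -- a basic open around `x'` missing the closure
  let V : f.normalization.Opens := (f.fromNormalization ⁻¹ᵁ U) ⊓
    ⟨(closure (f.toNormalization.base ''
      (f.toNormalization.base ⁻¹' ((f.normalization.basicOpen g : Set f.normalization)ᶜ))))ᶜ,
      isClosed_closure.isOpen_compl⟩
  have hx'V : x' ∈ V := ⟨hx'W, hnotcl⟩
  obtain ⟨h, hhV, hx'h⟩ := hW.exists_basicOpen_le ⟨x', hx'V⟩ hx'W
  have hhP : h ∉ (hW.primeIdealOf ⟨x', hx'W⟩).asIdeal := (mem_basicOpen_iff hW x' hx'W h).1 hx'h
  have hle : Y.basicOpen (phi f U h) ≤ Y.basicOpen (phi f U g) := by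
    rw [basicOpen_phi, basicOpen_phi]
    intro y hy
    have hyV : f.toNormalization y ∈ V := hhV hy
    by_contra hyg
    exact hyV.2 (subset_closure ⟨y, hyg, rfl⟩)
  -- `g` becomes invertible after inverting `h`
  have hc : IsCompact ((f ⁻¹ᵁ U : Y.Opens) : Set Y) := f.isCompact_preimage hU.isCompact
  have hqs : IsQuasiSeparated ((f ⁻¹ᵁ U : Y.Opens) : Set Y) :=
    f.isQuasiSeparated_preimage hU.isQuasiSeparated
  have hloc := isLocalization_basicOpen_of_qcqs hc hqs (phi f U h)
  obtain ⟨b, n, hb⟩ : ∃ (b : Γ(Y, f ⁻¹ᵁ U)) (n : ℕ), phi f U g * b = phi f U h ^ n := by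
    have hunit : IsUnit (algebraMap Γ(Y, f ⁻¹ᵁ U) Γ(Y, Y.basicOpen (phi f U h)) (phi f U g)) := by
      have h1 : IsUnit ((Y.presheaf.map (homOfLE (Y.basicOpen_le (phi f U g))).op).hom
          (phi f U g)) := RingedSpace.isUnit_res_basicOpen _ (phi f U g)
      have h2 := h1.map (Y.presheaf.map (homOfLE hle).op).hom
      have h3 : (Y.presheaf.map (homOfLE hle).op).hom
          ((Y.presheaf.map (homOfLE (Y.basicOpen_le (phi f U g))).op).hom (phi f U g)) =
          algebraMap Γ(Y, f ⁻¹ᵁ U) Γ(Y, Y.basicOpen (phi f U h)) (phi f U g) := by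
        rw [RingHom.algebraMap_toAlgebra, ← RingHom.comp_apply, ← CommRingCat.hom_comp,
          ← Functor.map_comp]
        rfl
      rwa [h3] at h2
    obtain ⟨v, hv⟩ := hunit.exists_right_inv
    obtain ⟨⟨b₀, s⟩, hbs⟩ := IsLocalization.surj (Submonoid.powers (phi f U h)) v
    obtain ⟨n, hn⟩ := s.2
    have hn' : phi f U h ^ n = (s : Γ(Y, f ⁻¹ᵁ U)) := hn
    have h4 : algebraMap Γ(Y, f ⁻¹ᵁ U) Γ(Y, Y.basicOpen (phi f U h)) (phi f U g * b₀) =
        algebraMap Γ(Y, f ⁻¹ᵁ U) Γ(Y, Y.basicOpen (phi f U h)) (phi f U h ^ n) := by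
      rw [map_mul, ← hbs, ← mul_assoc, hv, one_mul, hn']
    obtain ⟨c, hc'⟩ := (IsLocalization.eq_iff_exists (Submonoid.powers (phi f U h)) _).mp h4
    obtain ⟨m, hm⟩ := c.2
    have hm' : phi f U h ^ m = (c : Γ(Y, f ⁻¹ᵁ U)) := hm
    refine ⟨phi f U h ^ m * b₀, m + n, ?_⟩
    rw [pow_add]
    calc phi f U g * (phi f U h ^ m * b₀) = phi f U h ^ m * (phi f U g * b₀) := by ring
      _ = phi f U h ^ m * phi f U h ^ n := by rw [hm']; exact hc'
  -- apply the algebraic lemma
  letI algA'B : Algebra Γ(f.normalization, f.fromNormalization ⁻¹ᵁ U) Γ(Y, f ⁻¹ᵁ U) :=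
    (phi f U).toAlgebra
  letI := TopCat.Presheaf.algebra_section_stalk f.normalization.presheaf
    (⟨x', hx'W⟩ : ↥(f.fromNormalization ⁻¹ᵁ U))
  haveI := hW.isLocalization_stalk ⟨x', hx'W⟩
  refine isDVR_of_localization (A := Γ(f.normalization, f.fromNormalization ⁻¹ᵁ U))
    (B := Γ(Y, f ⁻¹ᵁ U)) (hW.primeIdealOf ⟨x', hx'W⟩).asIdeal hdim (phi_injective f hU) ?_
    g h hgP hhP b n hb
  intro b' hb'
  -- transitivity of integrality
  letI algAA' : Algebra Γ(X, U) Γ(f.normalization, f.fromNormalization ⁻¹ᵁ U) :=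
    (f.fromNormalization.app U).hom.toAlgebra
  letI algAB : Algebra Γ(X, U) Γ(Y, f ⁻¹ᵁ U) := (f.app U).hom.toAlgebra
  haveI : IsScalarTower Γ(X, U) Γ(f.normalization, f.fromNormalization ⁻¹ᵁ U) Γ(Y, f ⁻¹ᵁ U) :=
    IsScalarTower.of_algebraMap_eq fun a =>
      (fromNormalization_app_toNormalization_appLE f hU a).symm
  haveI : Algebra.IsIntegral Γ(X, U) Γ(f.normalization, f.fromNormalization ⁻¹ᵁ U) :=
    ⟨f.fromNormalization.isIntegral_app U hU⟩
  have hint : IsIntegral Γ(X, U) b' := isIntegral_trans b' hb'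
  obtain ⟨a', ha'⟩ := exists_section_normalization_of_isIntegral f hU b' hint
  exact ⟨a', ha'⟩

end Geo

end Groth.Agent.Helper2.NormDVR
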